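import Groth.Agent.CycPB.BundleSmooth
import Groth.Agent.CycPB.FiltPull
import Groth.Agent.ClopenSplit.Rank
import Groth.Agent.AmpleNbhd.Modification
import Groth.Agent.Nagata.PrimeSubscheme

/-!
A finite locally free module acquires a filtration with invertible quotients after a modification.
-/

set_option autoImplicit false
set_option linter.style.haveILetI false
set_option backward.isDefEq.respectTransparency false
set_option backward.isDefEq.respectTransparency.types false

universe u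

open CategoryTheory CategoryTheory.Limits AlgebraicGeometry TopologicalSpace Opposite

noncomputable section

namespace Groth.Agent.FlagModif

/-- An open section of a proper morphism to an integral scheme closes up to a modification. -/
theorem exists_modification_of_section {X P : Scheme.{u}} [IsIntegral X] (p : P ⟶ X) [IsProper p]
    (U : X.Opens) (hU : (U : Set X).Nonempty) (s : (U : Scheme.{u}) ⟶ P) (hs : s ≫ p = U.ι) :
    ∃ (X' : Scheme.{u}) (_ : IsIntegral X') (i : X' ⟶ P), IsProper (i ≫ p) ∧ IsIso ((i ≫ p) ∣_ U) := by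
  haveI : Nonempty (U : Scheme.{u}) := hU.to_subtype
  haveI : IsIntegral (U : Scheme.{u}) := isIntegral_of_isOpenImmersion U.ι
  let η := genericPoint (U : Scheme.{u})
  let g := (U : Scheme.{u}).fromSpecResidueField η
  let a := g ≫ s
  haveI : Finite (Spec ((U : Scheme.{u}).residueField η) : Scheme.{u}) :=
    inferInstanceAs (Finite (PrimeSpectrum ((U : Scheme.{u}).residueField η)))
  haveI : QuasiCompact a := ⟨fun W _ _ => (Set.toFinite _).isCompact⟩
  let i := a.imageι
  haveI : IsIntegral a.image := Nagata.isIntegral_image a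
  have hcl : IsClosedImmersion (pullback.fst s i) := inferInstance
  haveI : Surjective (pullback.fst s i) := ⟨fun u => by
    have hη : s η ∈ Set.range i := ⟨a.toImage (default), by
      rw [← Scheme.Hom.comp_apply, Scheme.Hom.toImage_imageι]
      simp [a, g]⟩
    have hu : s u ∈ Set.range i :=
      ((genericPoint_specializes u).map s.continuous).mem_closed i.isClosedEmbedding.isClosed_range hη
    rw [← Set.mem_range, Scheme.Pullback.range_fst]
    exact hu⟩
  haveI : IsIso (pullback.fst s i) := isIso_of_isClosedImmersion_of_surjective _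
  let t : (U : Scheme.{u}) ⟶ a.image := inv (pullback.fst s i) ≫ pullback.snd s i
  have ht : t ≫ i = s := by simp [t, ← pullback.condition]
  let f := i ≫ p
  have hf : t ≫ f = U.ι := by rw [← Category.assoc, ht, hs]
  have hran : Set.range t ⊆ Set.range (f ⁻¹ᵁ U).ι := by
    rintro _ ⟨u, rfl⟩
    rw [Scheme.Opens.range_ι]
    show (t ≫ f) u ∈ U
    rw [hf]
    exact u.2
  let t' := IsOpenImmersion.lift (f ⁻¹ᵁ U).ι t hran
  have ht'f : t' ≫ (f ∣_ U) = 𝟙 _ := by
    rw [← cancel_mono U.ι, Category.assoc, morphismRestrict_ι, IsOpenImmersion.lift_fac_assoc, hf,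
      Category.id_comp]
  haveI hfp : IsProper f := inferInstanceAs (IsProper (i ≫ p))
  haveI : IsSeparated (f ∣_ U) := IsZariskiLocalAtTarget.restrict (P := @IsSeparated) inferInstance _
  haveI : IsClosedImmersion t' := by
    haveI : IsClosedImmersion (t' ≫ (f ∣_ U)) := by rw [ht'f]; infer_instance
    exact IsClosedImmersion.of_comp t' (f ∣_ U)
  haveI : Nonempty ((f ⁻¹ᵁ U : a.image.Opens) : Scheme.{u}) := ⟨t' η⟩
  haveI : IsReduced ((f ⁻¹ᵁ U : a.image.Opens) : Scheme.{u}) := isReduced_of_isOpenImmersion (f ⁻¹ᵁ U).ι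
  haveI : Surjective t' := ⟨fun x => by
    have hat : a.toImage = g ≫ t := by
      rw [← cancel_mono i, Category.assoc, ht, Scheme.Hom.toImage_imageι]
    have hd : DenseRange t := (inferInstance : IsDominant a.toImage).denseRange.mono (by
      rw [hat]; rintro _ ⟨z, rfl⟩; exact ⟨g z, rfl⟩)
    have h2 : DenseRange t' := by
      have : Set.range t' = (f ⁻¹ᵁ U).ι ⁻¹' Set.range t := by
        ext y
        constructor
        · rintro ⟨z, rfl⟩
          exact ⟨z, by rw [← Scheme.Hom.comp_apply, IsOpenImmersion.lift_fac]⟩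
        · rintro ⟨z, hz⟩
          refine ⟨z, (f ⁻¹ᵁ U).ι.isOpenEmbedding.injective ?_⟩
          rw [← Scheme.Hom.comp_apply, IsOpenImmersion.lift_fac, hz]
      rw [DenseRange, this]
      exact hd.preimage (f ⁻¹ᵁ U).ι.isOpenEmbedding.isOpenMap
    have hx : x ∈ closure (Set.range t') := h2.closure_range.symm ▸ Set.mem_univ x
    rw [t'.isClosedEmbedding.isClosed_range.closure_eq] at hx
    exact hx⟩
  haveI : IsIso t' := isIso_of_isClosedImmersion_of_surjective _
  refine ⟨a.image, inferInstance, i, hfp, ?_⟩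
  haveI : IsIso (t' ≫ (f ∣_ U)) := by rw [ht'f]; infer_instance
  exact IsIso.of_isIso_comp_left t' (f ∣_ U)

/-- An invertible quotient over a modification. -/
theorem exists_quotient {X : Scheme.{u}} [IsIntegral X] {E : X.Modules} {n : ℕ}
    (hE : FlatMod.IsFinLocFreeOfRank (n + 1) E) :
    ∃ (X' : Scheme.{u}) (_ : IsIntegral X') (f : X' ⟶ X), IsProper f ∧
      (∃ U : X.Opens, (U : Set X).Nonempty ∧ IsIso (f ∣_ U)) ∧
      ∃ (K O : X'.Modules) (a : K ⟶ (Scheme.Modules.pullback f).obj E)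
        (b : (Scheme.Modules.pullback f).obj E ⟶ O) (w : a ≫ b = 0),
        PicF.IsInvertible O ∧ FlatMod.IsFinLocFreeOfRank n K ∧ (ShortComplex.mk a b w).ShortExact := by
  classical
  obtain ⟨P, p, O, q, hP, hp, -⟩ := CycPB.exists_projBundle hE
  haveI := hp
  obtain ⟨x₀⟩ := (inferInstance : Nonempty X)
  obtain ⟨U, hx₀, ⟨e⟩⟩ := hE x₀
  let θ : (Scheme.Modules.pullback U.ι).obj E ≅ FlatMod.freeMod (↑U) (n + 1) :=
    ((Scheme.Modules.restrictFunctorIsoPullback U.ι).app E).symm ≪≫ e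
  let pr : FlatMod.freeMod (U : Scheme.{u}) (n + 1) ⟶ FlatMod.freeMod (U : Scheme.{u}) 1 :=
    Sigma.desc fun j => if j = 0 then Sigma.ι (fun _ : Fin 1 => Coh.structureModule (U : Scheme.{u})) 0 else 0
  haveI : Epi pr := by
    haveI : IsSplitEpi pr := IsSplitEpi.mk'
      ⟨Sigma.desc fun _ => Sigma.ι (fun _ : Fin (n + 1) => Coh.structureModule (U : Scheme.{u})) 0, by
        refine Sigma.hom_ext _ _ fun j => ?_
        obtain rfl : j = 0 := Subsingleton.elim _ _
        simp [pr]⟩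
    infer_instance
  have hL : FlatMod.IsFinLocFreeOfRank 1 (FlatMod.freeMod (U : Scheme.{u}) 1) := fun x =>
    ⟨⊤, trivial, ⟨(Scheme.Modules.restrictFunctorIsoPullback _).app _ ≪≫ DerPerf.pullFreeIso _ 1⟩⟩
  obtain ⟨s, hs, -⟩ := PBundle.exists_hom hP U.ι hL (θ.hom ≫ pr)
  obtain ⟨X', hX', i, hi, hiU⟩ := exists_modification_of_section p U ⟨x₀, hx₀⟩ s hs
  refine ⟨X', hX', i ≫ p, hi, ⟨U, ⟨x₀, hx₀⟩, hiU⟩, ?_⟩
  haveI := hP.epi
  haveI := (Scheme.Modules.pullback i).additive_of_preserves_binary_products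
  have hEp := Nagata.isFinLocFreeOfRank_pullback p hE
  have hS : (ShortComplex.mk (kernel.ι q) q (kernel.condition q)).ShortExact :=
    { exact := ShortComplex.exact_kernel q }
  have hT := CycPB.shortExact_pullback_locFree i hS hP.invertible
  let c := (Scheme.Modules.pullbackComp i p).app E
  refine ⟨(Scheme.Modules.pullback i).obj (kernel q), (Scheme.Modules.pullback i).obj O,
    (Scheme.Modules.pullback i).map (kernel.ι q) ≫ c.hom, c.inv ≫ (Scheme.Modules.pullback i).map q, ?_,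
    PicLoc.isInvertible_pullback i (PBundle.isInvertible hP),
    Nagata.isFinLocFreeOfRank_pullback i (CycPB.isFinLocFreeOfRank_kernel q hEp (PBundle.isInvertible hP)), ?_⟩
  · rw [Category.assoc, c.hom_inv_id_assoc, ← Functor.map_comp, kernel.condition, Functor.map_zero]
  · exact ShortComplex.shortExact_of_iso (ShortComplex.isoMk
      (S₁ := (ShortComplex.mk (kernel.ι q) q (kernel.condition q)).map (Scheme.Modules.pullback i))
      (Iso.refl _) c (Iso.refl _) (by simp) (by simp)) hT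

/-- The filtration after a modification. -/
theorem exists_filt : ∀ (r : ℕ) {X : Scheme.{u}} [IsIntegral X] {E : X.Modules},
    FlatMod.IsFinLocFreeOfRank r E →
    ∃ (X' : Scheme.{u}) (_ : IsIntegral X') (f : X' ⟶ X), IsProper f ∧
      (∃ U : X.Opens, (U : Set X).Nonempty ∧ IsIso (f ∣_ U)) ∧
      CycPB.HasFilt ((Scheme.Modules.pullback f).obj E) r
  | 0, X, _, E, hE => by
    refine ⟨X, inferInstance, 𝟙 X, inferInstance, ⟨⊤, ⟨genericPoint X, trivial⟩, inferInstance⟩,
      fun i => i.elim0, fun i => i.elim0,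
      ⟨⟨fun _ => (Scheme.Modules.pullback (𝟙 X)).obj E, ?_, Iso.refl _, fun i => i.elim0, fun i => i.elim0,
        fun i => i.elim0, fun i => i.elim0⟩⟩⟩
    rw [IsZero.iff_id_eq_zero]
    refine CycPB.eq_zero_of_cover _ fun x => ?_
    obtain ⟨U, hxU, ⟨e⟩⟩ := Nagata.isFinLocFreeOfRank_pullback (𝟙 X) hE x
    refine ⟨U, hxU, IsZero.eq_of_src ?_ _ _⟩
    refine IsZero.of_iso ?_ (((Scheme.Modules.restrictFunctorIsoPullback U.ι).app _).symm ≪≫ e)
    rw [IsZero.iff_id_eq_zero]
    exact Sigma.hom_ext _ _ fun i => i.elim0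
  | n + 1, X, _, E, hE => by
    obtain ⟨X₁, hX₁, f, hf, ⟨U, hU, hfU⟩, K, O, a, b, w, hO, hK, hS⟩ := exists_quotient hE
    obtain ⟨X₂, hX₂, g, hg, ⟨V, hV, hgV⟩, hF⟩ := exists_filt n hK
    refine ⟨X₂, hX₂, g ≫ f, inferInstance, ?_, ?_⟩
    · haveI := hfU
      let W : X.Opens := U.ι ''ᵁ ((inv (f ∣_ U)) ⁻¹ᵁ ((f ⁻¹ᵁ U).ι ⁻¹ᵁ V))
      have hWU : W ≤ U := Scheme.Opens.ι_image_le _ _
      have hfW : f ⁻¹ᵁ W ≤ V := by
        rintro y ⟨u, hu, huy⟩
        have hy : f y ∈ U := hWU ⟨u, hu, huy⟩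
        have h0 : U.ι ((f ∣_ U) ⟨y, hy⟩) = f y :=
          congrArg (fun m : ((f ⁻¹ᵁ U : X₁.Opens) : Scheme.{u}) ⟶ X => m ⟨y, hy⟩) (morphismRestrict_ι f U)
        have : u = (f ∣_ U) ⟨y, hy⟩ := U.ι.isOpenEmbedding.injective (huy.trans h0.symm)
        subst this
        have hu' : ((f ∣_ U) ≫ inv (f ∣_ U)) ⟨y, hy⟩ ∈ (f ⁻¹ᵁ U).ι ⁻¹ᵁ V := hu
        rw [IsIso.hom_inv_id] at hu'
        exact hu'
      haveI : IsIso (f ∣_ W) := AmpleNbhd.isIso_restrict_of_le f hWU
      haveI : IsIso (g ∣_ (f ⁻¹ᵁ W)) := AmpleNbhd.isIso_restrict_of_le g hfW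
      refine ⟨W, ?_, by rw [morphismRestrict_comp]; infer_instance⟩
      obtain ⟨y, hyV, hyU⟩ : ((V : Set X₁) ∩ (f ⁻¹ᵁ U : X₁.Opens)).Nonempty := by
        refine nonempty_preirreducible_inter V.2 (f ⁻¹ᵁ U).2 hV ?_
        obtain ⟨x, hx⟩ := hU
        exact ⟨(f ⁻¹ᵁ U).ι (inv (f ∣_ U) ⟨x, hx⟩), (inv (f ∣_ U) ⟨x, hx⟩).2⟩
      refine ⟨f y, (f ∣_ U) ⟨y, hyU⟩, ?_,
        congrArg (fun m : ((f ⁻¹ᵁ U : X₁.Opens) : Scheme.{u}) ⟶ X => m ⟨y, hyU⟩) (morphismRestrict_ι f U)⟩
      show ((f ∣_ U) ≫ inv (f ∣_ U)) ⟨y, hyU⟩ ∈ (f ⁻¹ᵁ U).ι ⁻¹ᵁ V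
      rw [IsIso.hom_inv_id]
      exact hyV
    · haveI := (Scheme.Modules.pullback g).additive_of_preserves_binary_products
      have hT := CycPB.shortExact_pullback_locFree g hS (CurveRR.isFinLocFreeOfRank_one hO)
      exact (hF.extend (PicLoc.isInvertible_pullback g hO) _ _ _ hT).of_iso
        ((Scheme.Modules.pullbackComp g f).app E)

end Groth.Agent.FlagModif
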